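import Groth.Agent.Lib.FEt21.Thick
import Groth.Agent.Lib.ThickFT6.Basic
import Groth.Agent.Lib.FSchSys.Levels
import Groth.Prelude.Def_FSch5

/-!
# Levels of a pseudo-proper morphism are proper
-/

set_option autoImplicit false
set_option linter.style.haveILetI false
universe u

open CategoryTheory CategoryTheory.Limits AlgebraicGeometry

namespace GrothLib.FPushQC7

variable {𝔛 𝔜 : FSch.Sys.{u}}

/-- If the smallest level of a morphism is proper, so is every level. -/
theorem isProper_app (hN : 𝔛.IsLocNoethFormal) (hN' : 𝔜.IsLocNoethFormal) (f : 𝔛 ⟶ 𝔜)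
    [IsProper ((f : FSch.Hom 𝔛 𝔜).app 0)] (n : ℕ) : IsProper ((f : FSch.Hom 𝔛 𝔜).app n) := by
  let q := (f : FSch.Hom 𝔛 𝔜).app n
  let q₀ := (f : FSch.Hom 𝔛 𝔜).app 0
  have w : q₀ ≫ 𝔜.toX n = 𝔛.toX n ≫ q := (FSchSys.toX_comp_app f n).symm
  haveI : IsClosedImmersion (𝔛.toX n) := 𝔛.toX_isClosedImmersion hN.1 n
  haveI : IsClosedImmersion (𝔜.toX n) := 𝔜.toX_isClosedImmersion hN'.1 n
  haveI : Surjective (𝔛.toX n) := FSchSys.surjective_toX hN.1 n
  haveI : Surjective (𝔜.toX n) := FSchSys.surjective_toX hN'.1 n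
  haveI : IsSeparated q := FEt21.isSeparated_of_thickening (𝔜.toX n) q₀ q (𝔛.toX n) w
  haveI : UniversallyClosed (𝔛.toX n ≫ q) := by
    rw [← w]
    infer_instance
  haveI : UniversallyClosed q := .of_comp_surjective (𝔛.toX n) q
  haveI : LocallyOfFiniteType q := by
    haveI := hN.2.2 n
    refine (ThickFT6.locallyOfFiniteType_iff_of_thickening q q₀ (𝔛.toX n) (𝔜.toX n) (fun U => ?_) (fun U => ?_) w).2
      inferInstance
    · obtain ⟨k, hk⟩ := FSchSys.exists_ker_toX_ideal_pow hN.1 hN.2.1 n U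
      exact ⟨k, hk⟩
    · haveI := IsLocallyNoetherian.component_noetherian U
      exact IsNoetherian.noetherian _
  constructor

end GrothLib.FPushQC7
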