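import Groth.Agent.Lib.FPushQC7.Push
import Groth.Agent.Lib.FPushQC7.Proper
import Groth.Agent.Lib.FCat7.Bridge
import Groth.Agent.Lib.FormalExist7.PushTwist
import Groth.Agent.Lib.QCoh.FT

/-!
# Direct images of coherent torsion modules along pseudo-proper morphisms
-/

set_option autoImplicit false
set_option linter.style.haveILetI false
set_option linter.unusedSectionVars false
set_option maxHeartbeats 800000
set_option backward.isDefEq.respectTransparency false
universe u

open CategoryTheory CategoryTheory.Limits AlgebraicGeometry TopologicalSpace Opposite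

noncomputable section

namespace GrothLib.FPushQC7

open GrothLib.FMod7 GrothLib.FCat7

section Level

variable {𝔛 : FSch.Sys.{u}} {h : 𝔛.IsFormal} (hN : 𝔛.IsLocNoethFormal) {M : FSch.ModF 𝔛 h}
  [FSch.IsCohF 𝔛 h M]
include hN

/-- A coherent torsion module on a compact formal scheme is killed by one open ideal. -/
theorem exists_level_killed [NoetherianSpace (𝔛.X 0)] (hT : FTors.IsTorsF 𝔛 h M) :
    ∃ n, ∀ (U : (𝔛.X 0).Opens), IsAffineOpen U → ∀ s : ModSite.sect M U, Killed n s := by
  classical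
  obtain ⟨ι, _, W, hW, -, hcov⟩ := exists_affine_finset (𝔛 := 𝔛) ⊤
  choose l m hm using fun i => Submodule.fg_iff_exists_fin_generating_family.1
    (moduleFinite_sect (F := M) hN (hW i)).fg_top
  choose d hd using fun i j => exists_killed hN (hT (W i) (m i j)) (NoetherianSpace.isCompact _)
  let N := Finset.univ.sup fun i => Finset.univ.sup (d i)
  have key : ∀ i (s : ModSite.sect M (W i)), Killed N s := by
    intro i s
    have hs : s ∈ Submodule.span _ (Set.range (m i)) := hm i ▸ Submodule.mem_top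
    refine Submodule.span_induction ?_ (FTors.KilledBy.zero _ _ _ _) (fun _ _ _ _ hx hy => FTors.KilledBy.add hx hy)
      (fun c _ _ hx => FTors.KilledBy.smul c hx) hs
    rintro _ ⟨j, rfl⟩
    exact FTors.KilledBy.mono ((Finset.le_sup (Finset.mem_univ j)).trans
      (Finset.le_sup (f := fun i => Finset.univ.sup (d i)) (Finset.mem_univ i))) (hd i j)
  have hsub : ∀ i (V : (𝔛.X 0).Opens), IsAffineOpen V → V ≤ W i → ∀ t : ModSite.sect M V, Killed N t := by
    intro i V hV hVW t
    obtain ⟨c, hc⟩ := (Submodule.mem_span_range_iff_exists_fun _).1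
      ((span_sres_eq_top hN (hW i) hV hVW (hm i)) ▸ Submodule.mem_top : t ∈ Submodule.span _
        (Set.range fun j => sres M hVW (m i j)))
    rw [← hc]
    exact Finset.sum_induction _ (fun z => Killed N z) (fun _ _ => FTors.KilledBy.add) (FTors.KilledBy.zero _ _ _ _)
      fun j _ => FTors.KilledBy.smul _ ((key i (m i j)).res hVW)
  refine ⟨N, fun U hU s => killed_of_local hN fun p hp => ?_⟩
  obtain ⟨i, hi⟩ := hcov p trivial
  obtain ⟨V, hV, hpV, hVsub⟩ := exists_isAffineOpen_mem_and_subset (x := p) (U := U ⊓ W i) ⟨hp, hi⟩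
  exact ⟨V, fun z hz => (hVsub hz).1, hpV, hsub i V hV (fun z hz => (hVsub hz).2) _⟩

variable {n : ℕ} (hk : ∀ (U : (𝔛.X 0).Opens), IsAffineOpen U → ∀ s : ModSite.sect M U, Killed n s)
include hk

theorem bijective_unit_app {U : (𝔛.X 0).Opens} (hU : IsAffineOpen U) :
    Function.Bijective (fun s : ModSite.sect M U => ((FSch.levelMor 𝔛 h n).adj.unit.app M).val.app (op U) s) := by
  have e : ∀ s : ModSite.sect M U, ((FSch.levelMor 𝔛 h n).adj.unit.app M).val.app (op U) s =
      mProj h U (pullSys h M) n (secEquiv M hN U s) := fun s => (mProj_ηSec U s n).symm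
  obtain ⟨-, hp⟩ := mods_package (h := h) hN hU (isCoh_pullSys (F := M))
  refine ⟨(injective_iff_map_eq_zero ((FSch.levelMor 𝔛 h n).adj.unit.app M |>.val.app (op U)).hom).2 fun s hs => ?_, ?_⟩
  · have h1 := ((hp n).2 _).1 ((e s).symm.trans hs)
    have h2 := Submodule.mem_map_of_mem (f := (secEquiv M hN U).symm.toLinearMap) h1
    rw [Submodule.map_smul'', Submodule.map_top, LinearEquiv.range, LinearEquiv.coe_coe,
      LinearEquiv.symm_apply_apply] at h2
    refine Submodule.smul_induction_on h2 (fun a ha t _ => (hk U hU t).smul_mem_self hN hU ha) fun x y hx hy => ?_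
    rw [hx, hy, add_zero]
  · intro z
    obtain ⟨y, hy⟩ := (hp n).1 z
    exact ⟨(secEquiv M hN U).symm y, (e _).trans (by rw [LinearEquiv.apply_symm_apply]; exact hy)⟩

theorem isIso_unit_level : IsIso ((FSch.levelMor 𝔛 h n).adj.unit.app M) := by
  let η := (FSch.levelMor 𝔛 h n).adj.unit.app M
  haveI : Mono η := Preadditive.mono_of_cancel_zero _ fun {Z} g hg => hom_ext_basis fun U hU z =>
    (bijective_unit_app hN hk hU).1 ((congrArg (fun φ : Z ⟶ _ => φ.val.app (op U) z) hg).trans
      (map_zero (η.val.app (op U)).hom).symm)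
  haveI : Sheaf.IsLocallySurjective ((SheafOfModules.toSheaf _).map η) := by
    constructor
    intro U z y hy
    obtain ⟨W, hW, hyW, hWU⟩ := exists_isAffineOpen_mem_and_subset (x := y) (U := U) hy
    obtain ⟨x, hx⟩ := (bijective_unit_app hN hk hW).2
      (((FSch.levelMor 𝔛 h n).push.obj ((FSch.levelMor 𝔛 h n).pull.obj M)).val.map (homOfLE (show W ≤ U from hWU)).op z)
    exact ⟨W, homOfLE hWU, ⟨x, hx⟩, hyW⟩
  haveI : Epi η := (SheafOfModules.toSheaf _).epi_of_epi_map inferInstance
  exact isIso_of_mono_of_epi η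

end Level

variable {𝔛 𝔜 : FSch.Sys.{u}} {h : 𝔛.IsFormal} {h' : 𝔜.IsFormal} (f : 𝔛 ⟶ 𝔜)
  (hN : 𝔛.IsLocNoethFormal) (hN' : 𝔜.IsLocNoethFormal) [NoetherianSpace (𝔛.X 0)]
  [IsProper ((f : FSch.Hom 𝔛 𝔜).app 0)] {M : FSch.ModF 𝔛 h} [FSch.IsCohF 𝔛 h M]
  (hT : FTors.IsTorsF 𝔛 h M)
include hN hN' hT

theorem moduleFinite_pushF {W : (𝔜.X 0).Opens} (hW : IsAffineOpen W) :
    Module.Finite (Sec 𝔜 h' W) (ModSite.sect ((FSch.pushF f h h').obj M) W) := by
  classical
  obtain ⟨n, hk⟩ := exists_level_killed hN hT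
  haveI := isIso_unit_level hN hk
  let η := (FSch.levelMor 𝔛 h n).adj.unit.app M
  let G : (𝔛.X n).Modules := (pullSys h M).F n
  let q := (f : FSch.Hom 𝔛 𝔜).app n
  haveI : IsProper q := isProper_app hN hN' f n
  haveI := hN'.2.2 n
  have hG : Coh.IsCoh ((Scheme.Modules.pushforward q).obj G) := FormalExist7.isCoh_pushforward q (isCoh_pullSys (F := M) n)
  haveI := hG.1
  let V := 𝔜.lvU h' n W
  have hV : IsAffineOpen V := FFormal7.isAffineOpen_lvU 𝔜 h' hW n
  haveI := QCoh.moduleFinite_of_isFiniteType ((Scheme.Modules.pushforward q).obj G) hG.2 hV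
  obtain ⟨l, z, hz⟩ := Submodule.fg_iff_exists_fin_generating_family.1
    (Module.Finite.fg_top (R := Γ(𝔜.X n, V)) (M := Γ((Scheme.Modules.pushforward q).obj G, V)))
  let P := pre f W
  have e : 𝔛.lvU h n P = q ⁻¹ᵁ V := (FSch.Hom.lvU_preimage f h h' n W).symm
  let ρ : Γ(G, q ⁻¹ᵁ V) → Γ(G, 𝔛.lvU h n P) := fun x => G.presheaf.map (homOfLE e.le).op x
  have hρ : Function.Surjective ρ := fun y => ⟨G.presheaf.map (homOfLE e.ge).op y, by
    show (G.presheaf.map (homOfLE e.ge).op ≫ G.presheaf.map (homOfLE e.le).op) y = y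
    rw [← Functor.map_comp, show (homOfLE e.ge).op ≫ (homOfLE e.le).op = 𝟙 _ from Subsingleton.elim _ _,
      CategoryTheory.Functor.map_id]
    rfl⟩
  have hb : Function.Bijective (η.val.app (op P)) := by
    haveI : IsIso (η.val.app (op P)) := inferInstanceAs (IsIso ((SheafOfModules.evaluation _ (op P)).map η))
    exact ConcreteCategory.bijective_of_isIso (η.val.app (op P))
  choose x hx using fun i => hb.2 (ρ (z i))
  refine ⟨⟨Finset.univ.image (fun i => (show ModSite.sect ((FSch.pushF f h h').obj M) W from x i)), eq_top_iff.2 fun t _ => ?_⟩⟩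
  obtain ⟨w, hw⟩ := hρ (η.val.app (op P) t)
  obtain ⟨c, hc⟩ := (Submodule.mem_span_range_iff_exists_fun _).1
    (hz ▸ Submodule.mem_top : (show Γ((Scheme.Modules.pushforward q).obj G, V) from w) ∈
      Submodule.span Γ(𝔜.X n, V) (Set.range z))
  choose a ha using fun i => proj_surjective (h := h') hN' hW n (c i)
  let x' : Fin l → ModSite.sect ((FSch.pushF f h h').obj M) W := x
  have ht : t = ∑ i, a i • x' i := by
    refine hb.1 (hw.symm.trans ?_)
    show ρ w = η.val.app (op P) (∑ i, shp h h' f W (a i) • x i)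
    refine Eq.trans ?_ (map_sum (η.val.app (op P)).hom _ _).symm
    refine (congrArg ρ hc.symm).trans ((map_sum (G.presheaf.map (homOfLE e.le).op).hom _ _).trans
      (Finset.sum_congr rfl fun i _ => ?_))
    refine Eq.trans ?_ ((η.val.app (op P)).hom.map_smul (shp h h' f W (a i)) (x i)).symm
    show G.presheaf.map (homOfLE e.le).op ((q.app V (c i)) • (show Γ(G, q ⁻¹ᵁ V) from z i)) =
      proj 𝔛 h P n (shp h h' f W (a i)) • (show Γ(G, 𝔛.lvU h n P) from η.val.app (op P) (x i))
    rw [proj_shp, ha, hx, Scheme.Modules.map_smul]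
    rfl
  rw [ht]
  exact Submodule.sum_mem _ fun i _ => Submodule.smul_mem _ (a i)
    (Submodule.subset_span (Finset.mem_coe.2 (Finset.mem_image_of_mem _ (Finset.mem_univ i))))

theorem isCohF_pushF : FSch.IsCohF 𝔜 h' ((FSch.pushF f h h').obj M) := by
  refine isCohF_of_presentations fun p => ?_
  obtain ⟨W, hW, hp, -⟩ := exists_isAffineOpen_mem_and_subset (X := 𝔜.X 0) (x := p) (U := ⊤) trivial
  refine ⟨W, hp, ?_⟩
  have hQ : IsQC ((FSch.pushF f h h').obj M) W := isQC_pushF f hN hN' hT hW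
  obtain ⟨l, s, hs⟩ := Submodule.fg_iff_exists_fin_generating_family.1
    (moduleFinite_pushF (h' := h') f hN hN' hT hW).fg_top
  refine exists_presentation_of_local hN' hW s (fun V hV x q hq => ?_) fun V hV y hy q hq => ?_
  · obtain ⟨W', hW', hqW', hm⟩ := hQ.gen V hV x q hq
    refine ⟨W', hW', hqW', Submodule.span_le.2 ?_ hm⟩
    rintro _ ⟨t, rfl⟩
    obtain ⟨c, hc⟩ := (Submodule.mem_span_range_iff_exists_fun _).1 (hs ▸ Submodule.mem_top : t ∈ Submodule.span _ (Set.range s))
    show sres _ (hW'.trans hV) t ∈ Submodule.span (Sec 𝔜 h' W') _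
    rw [← hc, sres_sum]
    exact Submodule.sum_mem _ fun i _ => Submodule.smul_mem _ _ (Submodule.subset_span ⟨i, rfl⟩)
  · obtain ⟨W', hW', hqW', hm⟩ := hQ.rel (ULift.{u} (Fin l)) (fun i => s i.down) V hV (fun i => y i.down)
      ((Equiv.ulift.sum_comp fun i => y i • sres _ hV (s i)).trans hy) q hq
    refine ⟨W', hW', hqW', ?_⟩
    let L : (ULift.{u} (Fin l) → Sec 𝔜 h' W') →ₗ[Sec 𝔜 h' W'] (Fin l → Sec 𝔜 h' W') :=
      LinearMap.funLeft _ _ ULift.up
    have h1 := Submodule.mem_map_of_mem (f := L) hm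
    rw [Submodule.map_span] at h1
    refine Submodule.span_mono ?_ h1
    rintro _ ⟨_, ⟨b, hb, rfl⟩, rfl⟩
    exact ⟨fun i => b ⟨i⟩, (Equiv.ulift.symm.sum_comp fun i => b i • s i.down).trans hb, rfl⟩

end GrothLib.FPushQC7
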