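import Groth.Agent.Lib.FPushQC7.Crit

/-!
# Sections of quasi-coherent torsion modules over Noetherian opens
-/

set_option autoImplicit false
set_option linter.style.haveILetI false
set_option linter.unusedSectionVars false
set_option maxHeartbeats 800000
universe u

open CategoryTheory CategoryTheory.Limits AlgebraicGeometry TopologicalSpace Opposite

noncomputable section

namespace GrothLib.FPushQC7

open GrothLib.FMod7 GrothLib.FCat7

variable {𝔛 : FSch.Sys.{u}} {h : 𝔛.IsFormal} (hN : 𝔛.IsLocNoethFormal) {M : FSch.ModF 𝔛 h}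
  (hT : FTors.IsTorsF 𝔛 h M) [SheafOfModules.IsQuasicoherent.{u} M] [NoetherianSpace (𝔛.X 0)]
include hN hT

omit hN hT in
theorem exists_affine_finset (P : (𝔛.X 0).Opens) : ∃ (ι : Type u) (_ : Fintype ι) (W : ι → (𝔛.X 0).Opens),
    (∀ i, IsAffineOpen (W i)) ∧ (∀ i, W i ≤ P) ∧ ∀ p ∈ P, ∃ i, p ∈ W i := by
  classical
  choose W hW hpW hWP using fun p : P => exists_isAffineOpen_mem_and_subset (x := p.1) (U := P) p.2
  obtain ⟨t, ht⟩ := (NoetherianSpace.isCompact (P : Set (𝔛.X 0))).elim_finite_subcover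
    (fun p : P => (W p : Set (𝔛.X 0))) (fun p => (W p).2) fun p hp => Set.mem_iUnion.2 ⟨⟨p, hp⟩, hpW _⟩
  refine ⟨t, inferInstance, fun i => W i.1, fun i => hW i.1, fun i => hWP i.1, fun p hp => ?_⟩
  obtain ⟨q, hq, hpq⟩ := Set.mem_iUnion₂.1 (ht hp)
  exact ⟨⟨q, hq⟩, hpq⟩

omit hN in
theorem exists_killed_open (hN : 𝔛.IsLocNoethFormal) {P : (𝔛.X 0).Opens} (s : ModSite.sect M P) :
    ∃ n, Killed n s :=
  exists_killed hN (hT P s) (NoetherianSpace.isCompact _)

/-- Sections vanishing on the locus of invertibility are killed by a power. -/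
theorem exists_pow_smul_eq_zero_open {P : (𝔛.X 0).Opens} (φ : Sec 𝔛 h P) (y : ModSite.sect M P)
    (h0 : sres M (sBasic_le φ) y = 0) : ∃ k : ℕ, φ ^ k • y = 0 := by
  classical
  obtain ⟨ι, _, W, hW, hWP, hcov⟩ := exists_affine_finset (𝔛 := 𝔛) P
  have H : ∀ i, ∃ k : ℕ, rRes (hWP i) φ ^ k • sres M (hWP i) y = 0 := fun i => by
    refine tors_exists_pow_smul_eq_zero hN hT (hW i) _ _ ?_
    have hle : sBasic (rRes (hWP i) φ) ≤ sBasic φ := (sBasic_rRes _ φ).le.trans inf_le_right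
    rw [sres_sres, ← sres_sres (sBasic_le φ) hle, h0]
    exact map_zero (M.val.map (homOfLE hle).op).hom
  choose k hk using H
  refine ⟨Finset.univ.sup k, sect_ext M _ _ fun p hp => ?_⟩
  obtain ⟨i, hpi⟩ := hcov p hp
  refine ⟨W i, hWP i, hpi, ?_⟩
  refine (M.val.map_smul (homOfLE (hWP i)).op _ y).trans (Eq.trans ?_ (map_zero _).symm)
  show rRes (hWP i) (φ ^ Finset.univ.sup k) • sres M (hWP i) y = 0
  obtain ⟨j, hj⟩ := Nat.exists_eq_add_of_le (Finset.le_sup (f := k) (Finset.mem_univ i))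
  rw [map_pow, hj, pow_add, mul_comm, mul_smul, hk i, smul_zero]

/-- Sections over the locus of invertibility extend after multiplication by a power. -/
theorem exists_pow_smul_eq_sres_open {P : (𝔛.X 0).Opens} (φ : Sec 𝔛 h P) (x : ModSite.sect M (sBasic φ)) :
    ∃ (k : ℕ) (y : ModSite.sect M P), sres M (sBasic_le φ) y = rRes (sBasic_le φ) φ ^ k • x := by
  classical
  obtain ⟨ι, _, W, hW, hWP, hcov⟩ := exists_affine_finset (𝔛 := 𝔛) P
  let φi : ∀ i, Sec 𝔛 h (W i) := fun i => rRes (hWP i) φ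
  have hDφ : ∀ i, sBasic (φi i) ≤ sBasic φ := fun i => (sBasic_rRes _ φ).le.trans inf_le_right
  choose k y hy using fun i => tors_exists_pow_smul_eq_sres hN hT (hW i) (φi i) (sres M (hDφ i) x)
  let K := Finset.univ.sup k
  let y' : ∀ i, ModSite.sect M (W i) := fun i => φi i ^ (K - k i) • y i
  have hy' : ∀ i, sres M (sBasic_le (φi i)) (y' i) = rRes (sBasic_le (φi i)) (φi i) ^ K • sres M (hDφ i) x := fun i => by
    refine (M.val.map_smul (homOfLE (sBasic_le (φi i))).op _ _).trans ?_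
    show rRes (sBasic_le (φi i)) (φi i ^ (K - k i)) • sres M (sBasic_le (φi i)) (y i) = _
    rw [hy i, smul_smul, map_pow, ← pow_add, Nat.sub_add_cancel (Finset.le_sup (f := k) (Finset.mem_univ i))]
  have H : ∀ q : ι × ι, ∃ m : ℕ, rRes ((inf_le_left : W q.1 ⊓ W q.2 ≤ W q.1).trans (hWP q.1)) φ ^ m •
      (sres M (inf_le_left : W q.1 ⊓ W q.2 ≤ W q.1) (y' q.1) - sres M (inf_le_right : W q.1 ⊓ W q.2 ≤ W q.2) (y' q.2)) = 0 := by
    intro q
    refine exists_pow_smul_eq_zero_open hN hT _ _ ?_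
    set ψ := rRes ((inf_le_left : W q.1 ⊓ W q.2 ≤ W q.1).trans (hWP q.1)) φ with hψ
    have hb : sBasic ψ = (W q.1 ⊓ W q.2) ⊓ sBasic φ := sBasic_rRes _ φ
    have hφ : sBasic ψ ≤ sBasic φ := hb.le.trans inf_le_right
    have key : ∀ (i : ι) (hi : W q.1 ⊓ W q.2 ≤ W i), sres M (sBasic_le ψ) (sres M hi (y' i)) =
        rRes hφ (rRes (sBasic_le φ) φ) ^ K • sres M hφ x := fun i hi => by
      have hle : sBasic ψ ≤ sBasic (φi i) := by
        rw [sBasic_rRes (hWP i) φ]
        exact le_inf ((sBasic_le ψ).trans hi) hφ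
      rw [sres_sres, ← sres_sres (sBasic_le (φi i)) hle, hy' i]
      refine (M.val.map_smul (homOfLE hle).op _ _).trans ?_
      show rRes hle (rRes (sBasic_le (φi i)) (φi i) ^ K) • sres M hle (sres M (hDφ i) x) = _
      rw [sres_sres, map_pow]
      refine congrArg (fun r => r ^ K • _) ?_
      exact ((ores_ores _ _ (φi i)).trans (ores_ores _ _ φ)).trans (ores_ores _ _ φ).symm
    refine (map_sub (M.val.map (homOfLE (sBasic_le ψ)).op).hom _ _).trans ?_
    exact sub_eq_zero.2 ((key q.1 inf_le_left).trans (key q.2 inf_le_right).symm)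
  choose m hm using H
  let L := Finset.univ.sup m
  let S : TopCat.Sheaf AddCommGrpCat.{u} (𝔛.X 0).carrier := (SheafOfModules.toSheaf _).obj M
  obtain ⟨t, ht, -⟩ := TopCat.Sheaf.existsUnique_gluing' S W P (fun i => homOfLE (hWP i))
    (fun p hp => by obtain ⟨i, hi⟩ := hcov p hp; exact TopologicalSpace.Opens.mem_iSup.2 ⟨i, hi⟩)
    (fun i => φi i ^ L • y' i) (fun i j => by
      show sres M inf_le_left (φi i ^ L • y' i) = sres M inf_le_right (φi j ^ L • y' j)
      refine (M.val.map_smul (homOfLE (inf_le_left : W i ⊓ W j ≤ W i)).op _ _).trans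
        (Eq.trans ?_ (M.val.map_smul (homOfLE (inf_le_right : W i ⊓ W j ≤ W j)).op _ _).symm)
      show rRes (inf_le_left : W i ⊓ W j ≤ W i) (φi i ^ L) • sres M inf_le_left (y' i) =
        rRes (inf_le_right : W i ⊓ W j ≤ W j) (φi j ^ L) • sres M inf_le_right (y' j)
      obtain ⟨d, hd⟩ := Nat.exists_eq_add_of_le (Finset.le_sup (f := m) (Finset.mem_univ (i, j)))
      have e := congrArg (rRes ((inf_le_left : W i ⊓ W j ≤ W i).trans (hWP i)) φ ^ d • ·) (hm (i, j))
      simp only [smul_zero, smul_smul, ← pow_add, smul_sub, sub_eq_zero] at e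
      rw [show L = d + m (i, j) from hd.trans (add_comm _ _), map_pow, map_pow,
        show rRes (inf_le_left : W i ⊓ W j ≤ W i) (φi i) = rRes ((inf_le_left : W i ⊓ W j ≤ W i).trans (hWP i)) φ from
          ores_ores _ _ φ,
        show rRes (inf_le_right : W i ⊓ W j ≤ W j) (φi j) = rRes ((inf_le_left : W i ⊓ W j ≤ W i).trans (hWP i)) φ from
          ores_ores _ _ φ]
      exact e)
  refine ⟨L + K, t, sect_ext M _ _ fun p hp => ?_⟩
  obtain ⟨i, hi⟩ := hcov p (sBasic_le φ hp)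
  have hle : sBasic (φi i) ≤ sBasic φ := hDφ i
  refine ⟨sBasic (φi i), hle, (sBasic_rRes (hWP i) φ).ge ⟨hi, hp⟩, ?_⟩
  rw [sres_sres, ← sres_sres (hWP i) (sBasic_le (φi i)) t, show sres M (hWP i) t = φi i ^ L • y' i from ht i]
  refine (M.val.map_smul (homOfLE (sBasic_le (φi i))).op _ _).trans
    (Eq.trans ?_ (M.val.map_smul (homOfLE hle).op _ x).symm)
  show rRes (sBasic_le (φi i)) (φi i ^ L) • sres M (sBasic_le (φi i)) (y' i) =
    rRes hle (rRes (sBasic_le φ) φ ^ (L + K)) • sres M hle x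
  rw [hy' i, smul_smul, map_pow, map_pow, ← pow_add]
  exact congrArg (fun r => r ^ (L + K) • _) ((ores_ores _ _ φ).trans (ores_ores _ _ φ).symm)

end GrothLib.FPushQC7
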