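import Groth.Agent.Lib.FCat7.QCT
import Groth.Agent.Lib.FCat7.Crit
import Groth.Agent.Lib.FFp7.Spec

/-!
# Torsion modules with sections localising on affine opens are presented by sections
-/

set_option autoImplicit false
set_option linter.style.haveILetI false
set_option linter.unusedSectionVars false
set_option maxHeartbeats 800000
universe u

open CategoryTheory CategoryTheory.Limits AlgebraicGeometry TopologicalSpace Opposite

noncomputable section

namespace GrothLib.FPushQC7

open GrothLib.FMod7 GrothLib.FCat7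

variable {𝔛 : FSch.Sys.{u}} {h : 𝔛.IsFormal}

/-- A function is invertible where it is invertible on the smallest level. -/
theorem isUnit_rRes_sBasic (hN : 𝔛.IsLocNoethFormal) {W : (𝔛.X 0).Opens} (hW : IsAffineOpen W) (f : Sec 𝔛 h W) :
    IsUnit (rRes (sBasic_le f) f) := by
  have hD := isAffineOpen_sBasic hW f
  haveI := isAdicComplete_Sec (h := h) hN hD
  obtain ⟨k, b, hb⟩ := exists_pow_mul_sub_mem hN hW 0 f (1 : Sec 𝔛 h (sBasic f))
  have h1 : IsUnit (proj 𝔛 h (sBasic f) 0 (rRes (sBasic_le f) f)) := by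
    rw [show proj 𝔛 h (sBasic f) 0 (rRes (sBasic_le f) f) = _ from proj_res h W (sBasic_le f) 0 f]
    have hu : IsUnit ((𝔛.X 0).presheaf.map (homOfLE ((𝔛.X 0).basicOpen_le (proj 𝔛 h W 0 f))).op (proj 𝔛 h W 0 f)) :=
      RingedSpace.isUnit_res_basicOpen _ (proj 𝔛 h W 0 f)
    have := hu.map ((𝔛.X 0).presheaf.map (homOfLE (show 𝔛.lvU h 0 (sBasic f) ≤
      (𝔛.X 0).basicOpen (proj 𝔛 h W 0 f) from (lvU_zero (sBasic f)).le)).op).hom
    rwa [← ConcreteCategory.comp_apply, ← Functor.map_comp] at this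
  obtain ⟨z, hz⟩ := h1.exists_right_inv
  obtain ⟨y, rfl⟩ := proj_surjective (h := h) hN hD 0 z
  have hJ : rRes (sBasic_le f) f * y - 1 ∈ Ideal.jacobson (⊥ : Ideal (Sec 𝔛 h (sBasic f))) :=
    IsAdicComplete.le_jacobson_bot (secIdeal 𝔛 h (sBasic f))
      (show _ ∈ RingHom.ker _ by rw [RingHom.mem_ker, map_sub, map_mul, map_one, hz, sub_self])
  exact isUnit_of_mul_isUnit_left ((Ideal.mem_jacobson_bot.1 hJ 1 |> fun hu => by simpa using hu) :
    IsUnit (rRes (sBasic_le f) f * y))

variable {M : FSch.ModF 𝔛 h}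

/-- Torsion modules with sections extending from and separated on basic opens are presented by sections. -/
theorem isQC_of_localises (hN : 𝔛.IsLocNoethFormal) {W : (𝔛.X 0).Opens} (hW : IsAffineOpen W)
    (hT : ∀ s : ModSite.sect M W, ∃ n, Killed n s)
    (hsep : ∀ (f : Sec 𝔛 h W) (y : ModSite.sect M W), sres M (sBasic_le f) y = 0 → ∃ k : ℕ, f ^ k • y = 0)
    (hlift : ∀ (f : Sec 𝔛 h W) (x : ModSite.sect M (sBasic f)),
      ∃ (k : ℕ) (y : ModSite.sect M W), sres M (sBasic_le f) y = rRes (sBasic_le f) f ^ k • x) : IsQC M W := by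
  classical
  refine ⟨fun V hV m p hp => ?_, fun α _ s V hV y hy p hp => ?_⟩
  · obtain ⟨f, hpf, hfV⟩ := exists_sBasic_le hN hW (hV hp) hp
    obtain ⟨k, x, hx⟩ := hlift f (sres M hfV m)
    obtain ⟨v, hv⟩ := ((isUnit_rRes_sBasic hN hW f).pow k)
    refine ⟨sBasic f, hfV, hpf, ?_⟩
    have : sres M hfV m = (↑v⁻¹ : Sec 𝔛 h (sBasic f)) • sres M (sBasic_le f) x := by
      rw [hx, ← hv, smul_smul, Units.inv_mul, one_smul]
    rw [this]
    exact Submodule.smul_mem _ _ (Submodule.subset_span ⟨x, rfl⟩)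
  · obtain ⟨f, hpf, hfV⟩ := exists_sBasic_le hN hW (hV hp) hp
    refine ⟨sBasic f, hfV, hpf, ?_⟩
    choose n hn using fun i => hT (s i)
    let K := Finset.univ.sup n
    have hK : ∀ i, Killed K (s i) := fun i => FTors.KilledBy.mono (Finset.le_sup (Finset.mem_univ i)) (hn i)
    choose k b hb using fun i => exists_pow_mul_sub_mem hN hW K f (rRes hfV (y i))
    let L := Finset.univ.sup k
    let b' : α → Sec 𝔛 h W := fun i => f ^ (L - k i) * b i
    have hd : ∀ i, rRes (sBasic_le f) f ^ L * rRes hfV (y i) - rRes (sBasic_le f) (b' i) ∈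
        secIdeal 𝔛 h (sBasic f) ^ (K + 1) := fun i => by
      have e : rRes (sBasic_le f) f ^ L * rRes hfV (y i) - rRes (sBasic_le f) (b' i) =
          rRes (sBasic_le f) f ^ (L - k i) *
            (rRes (sBasic_le f) f ^ k i * rRes hfV (y i) - rRes (sBasic_le f) (b i)) := by
        rw [map_mul, map_pow, mul_sub, ← mul_assoc, ← pow_add, Nat.sub_add_cancel (Finset.le_sup (Finset.mem_univ i))]
      rw [e]
      exact Ideal.mul_mem_left _ _ (hb i)
    have h0 : sres M (sBasic_le f) (∑ i, b' i • s i) = 0 := by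
      have h1 : ∑ i, rRes hfV (y i) • sres M (sBasic_le f) (s i) = 0 := by
        have := congrArg (sres M hfV) hy
        rw [sres_sum] at this
        refine Eq.trans ?_ (this.trans (map_zero (M.val.map (homOfLE hfV).op).hom))
        exact Finset.sum_congr rfl fun i _ => congrArg (rRes hfV (y i) • ·) (sres_sres hV hfV (s i)).symm
      rw [sres_sum]
      refine Eq.trans (Finset.sum_congr rfl fun i _ => ?_) ((Finset.smul_sum (r := rRes (sBasic_le f) f ^ L)
        (f := fun i => rRes hfV (y i) • sres M (sBasic_le f) (s i)) (s := Finset.univ)).symm.trans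
          ((congrArg _ h1).trans (smul_zero _)))
      show rRes (sBasic_le f) (b' i) • sres M (sBasic_le f) (s i) = _
      rw [smul_smul, eq_comm, ← sub_eq_zero, ← sub_smul]
      exact (hK i).smul_mem hN (sBasic_le f) (isAffineOpen_sBasic hW f) (hd i)
    obtain ⟨j, hj⟩ := hsep f _ h0
    obtain ⟨v, hv⟩ := (isUnit_rRes_sBasic hN hW f).pow (j + L)
    let S := Submodule.span (Sec 𝔛 h (sBasic f))
      ((fun c : α → Sec 𝔛 h W => wRes (hfV.trans hV) c) '' {c | ∑ a, c a • s a = 0})
    have hgl : wRes (hfV.trans hV) (fun i => f ^ j * b' i) ∈ S :=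
      Submodule.subset_span ⟨_, by
        refine Eq.trans ?_ hj
        rw [Finset.smul_sum]
        exact Finset.sum_congr rfl fun i _ => mul_smul _ _ _, rfl⟩
    have hsmall : ∀ (i : α) (c : Sec 𝔛 h (sBasic f)), c ∈ secIdeal 𝔛 h (sBasic f) ^ (K + 1) → Pi.single i c ∈ S := by
      intro i c hc
      rw [← map_secIdeal_pow hN hW (isAffineOpen_sBasic hW f) (sBasic_le f), Ideal.map] at hc
      refine Submodule.span_induction ?_ (by rw [Pi.single_zero]; exact zero_mem _)
        (fun x x' _ _ hx hx' => by rw [Pi.single_add]; exact add_mem hx hx')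
        (fun r x _ hx => by rw [Pi.single_smul]; exact Submodule.smul_mem _ r hx) hc
      rintro _ ⟨d, hd', rfl⟩
      refine Submodule.subset_span ⟨Pi.single i d, ?_, funext fun a => ?_⟩
      · show ∑ a, (Pi.single i d : α → Sec 𝔛 h W) a • s a = 0
        rw [Finset.sum_eq_single i (fun a _ ha => by rw [Pi.single_eq_of_ne ha, zero_smul]) (by simp), Pi.single_eq_same]
        exact (hK i).smul_mem_self hN hW hd'
      · show rRes _ ((Pi.single i d : α → Sec 𝔛 h W) a) = _
        by_cases ha : a = i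
        · subst ha; rw [Pi.single_eq_same, Pi.single_eq_same]
        · rw [Pi.single_eq_of_ne ha, Pi.single_eq_of_ne ha, map_zero]
    have e : (v : Sec 𝔛 h (sBasic f)) • wRes hfV y = wRes (hfV.trans hV) (fun i => f ^ j * b' i) +
        ∑ i, Pi.single i (rRes (sBasic_le f) f ^ j *
          (rRes (sBasic_le f) f ^ L * rRes hfV (y i) - rRes (sBasic_le f) (b' i))) := by
      funext a
      rw [Pi.smul_apply, Pi.add_apply, Finset.sum_apply, Finset.sum_pi_single, if_pos (Finset.mem_univ a), hv]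
      show _ • rRes hfV (y a) = rRes (sBasic_le f) (f ^ j * b' a) + _
      rw [map_mul, map_pow, smul_eq_mul, pow_add]
      ring
    have hmem : (v : Sec 𝔛 h (sBasic f)) • wRes hfV y ∈ S := by
      rw [e]
      exact add_mem hgl (Submodule.sum_mem _ fun i _ => hsmall i _ (Ideal.mul_mem_left _ _ (hd i)))
    have := Submodule.smul_mem S (↑v⁻¹ : Sec 𝔛 h (sBasic f)) hmem
    rwa [smul_smul, Units.inv_mul, one_smul] at this

end GrothLib.FPushQC7
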