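import Groth.Agent.Lib.FPushQC7.Compact
import Groth.Prelude.Def_FSch6

/-!
# Direct images of quasi-coherent torsion modules
-/

set_option autoImplicit false
set_option linter.style.haveILetI false
set_option linter.unusedSectionVars false
set_option maxHeartbeats 800000
set_option backward.isDefEq.respectTransparency false
universe u

open CategoryTheory CategoryTheory.Limits AlgebraicGeometry TopologicalSpace Opposite

noncomputable section

namespace GrothLib.FPushQC7

open GrothLib.FMod7 GrothLib.FCat7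

variable {𝔛 𝔜 : FSch.Sys.{u}} {h : 𝔛.IsFormal} {h' : 𝔜.IsFormal} (f : 𝔛 ⟶ 𝔜)

/-- The preimage of an open. -/
abbrev pre (W : (𝔜.X 0).Opens) : (𝔛.X 0).Opens := (f : FSch.Hom 𝔛 𝔜).app 0 ⁻¹ᵁ W

theorem pre_mono {W V : (𝔜.X 0).Opens} (hVW : V ≤ W) : pre f V ≤ pre f W :=
  ((Opens.map ((f : FSch.Hom 𝔛 𝔜).app 0).base).map (homOfLE hVW)).le

variable (h h') in
/-- The map on functions. -/
abbrev shp (W : (𝔜.X 0).Opens) : Sec 𝔜 h' W →+* Sec 𝔛 h (pre f W) :=
  ((FSch.Hom.sharp f h h').hom.app (op W)).hom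

theorem shp_rRes {W V : (𝔜.X 0).Opens} (hVW : V ≤ W) (a : Sec 𝔜 h' W) :
    shp h h' f V (rRes hVW a) = rRes (pre_mono f hVW) (shp h h' f W a) :=
  ConcreteCategory.congr_hom ((FSch.Hom.sharp f h h').hom.naturality (homOfLE hVW).op) a

theorem proj_shp (W : (𝔜.X 0).Opens) (k : ℕ) (b : Sec 𝔜 h' W) :
    proj 𝔛 h (pre f W) k (shp h h' f W b) =
      ((f : FSch.Hom 𝔛 𝔜).app k).appLE (𝔜.lvU h' k W) (𝔛.lvU h k (pre f W))
        (FSch.Hom.lvU_preimage f h h' k W).ge (proj 𝔜 h' W k b) :=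
  ConcreteCategory.congr_hom (congrArg (fun φ : 𝔜.Osh h' ⟶ _ => φ.hom.app (op W))
    (FSch.Hom.sharp_proj f h h' k)) b

theorem sBasic_shp {W : (𝔜.X 0).Opens} (g : Sec 𝔜 h' W) : sBasic (shp h h' f W g) = pre f (sBasic g) := by
  show (𝔛.X 0).basicOpen _ = _
  rw [proj_shp]
  refine (Scheme.basicOpen_appLE ((f : FSch.Hom 𝔛 𝔜).app 0) _ _ _ _).trans ?_
  rw [lvU_zero]
  exact inf_eq_right.2 (pre_mono f (sBasic_le g))

variable {M : FSch.ModF 𝔛 h}

theorem killed_pushF {n : ℕ} {W : (𝔜.X 0).Opens} (s : ModSite.sect ((FSch.pushF f h h').obj M) W)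
    (hs : @FTors.KilledBy _ _ _ _ (FTors.openIdealFam 𝔛 h) M n (pre f W) s) : Killed n s := by
  intro V g a ha
  show shp h h' f V a • sres M (pre_mono f g.le) s = 0
  refine FCat7.Killed.smul_sres hs _ ?_
  rw [proj_shp]
  exact (congrArg _ (RingHom.mem_ker.1 ha)).trans (map_zero _)

variable (hN : 𝔛.IsLocNoethFormal) (hN' : 𝔜.IsLocNoethFormal) (hT : FTors.IsTorsF 𝔛 h M)
  [NoetherianSpace (𝔛.X 0)]
include hN hT

theorem isTorsF_pushF : FTors.IsTorsF 𝔜 h' ((FSch.pushF f h h').obj M) := fun W s => by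
  obtain ⟨n, hn⟩ := exists_killed hN (hT (pre f W) s) (NoetherianSpace.isCompact _)
  exact FTors.IsTorsSect.of_killedBy (killed_pushF f s hn)

variable [SheafOfModules.IsQuasicoherent.{u} M]
include hN'

theorem isQC_pushF {W : (𝔜.X 0).Opens} (hW : IsAffineOpen W) : IsQC ((FSch.pushF f h h').obj M) W := by
  refine isQC_of_localises hN' hW (fun s => ?_) (fun g (y : ModSite.sect M (pre f W)) hy => ?_)
    fun g (x : ModSite.sect M (pre f (sBasic g))) => ?_
  · obtain ⟨n, hn⟩ := exists_killed hN (hT (pre f W) s) (NoetherianSpace.isCompact _)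
    exact ⟨n, killed_pushF f s hn⟩
  · have e := sBasic_shp (h := h) f g
    obtain ⟨k, hk⟩ := exists_pow_smul_eq_zero_open hN hT (shp h h' f W g) y (by
      have h0 : sres M (pre_mono f (sBasic_le g)) y = 0 := hy
      rw [show sres M (sBasic_le (shp h h' f W g)) y = sres M e.le (sres M (pre_mono f (sBasic_le g)) y) from
        (sres_sres _ _ y).symm, h0]
      exact map_zero (M.val.map (homOfLE e.le).op).hom)
    refine ⟨k, ?_⟩
    show shp h h' f W (g ^ k) • y = 0
    rw [map_pow]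
    exact hk
  · have e := sBasic_shp (h := h) f g
    obtain ⟨k, y, hy⟩ := exists_pow_smul_eq_sres_open hN hT (shp h h' f W g) (sres M e.le x)
    refine ⟨k, y, ?_⟩
    show sres M (pre_mono f (sBasic_le g)) y = shp h h' f (sBasic g) (rRes (sBasic_le g) g ^ k) • x
    have := congrArg (sres M e.ge) hy
    rw [sres_sres] at this
    refine this.trans ((M.val.map_smul (homOfLE e.ge).op _ _).trans ?_)
    show rRes e.ge (rRes (sBasic_le _) (shp h h' f W g) ^ k) • sres M e.ge (sres M e.le x) = _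
    rw [sres_sres, sres_id, map_pow, map_pow, shp_rRes]
    exact congrArg (fun r => r ^ k • x) (ores_ores _ _ _)

theorem isQuasicoherent_pushF : SheafOfModules.IsQuasicoherent.{u} ((FSch.pushF f h h').obj M) :=
  isQuasicoherent_of_isQC fun p => by
    obtain ⟨W, hW, hp, -⟩ := exists_isAffineOpen_mem_and_subset (X := 𝔜.X 0) (x := p) (U := ⊤) trivial
    exact ⟨W, hp, isQC_pushF f hN hN' hT hW⟩

end GrothLib.FPushQC7
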